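import Mathlib

/-! Direct sums and retracts of distinguished triangles. -/

universe v u

namespace Groth.Agent.CohDerX

open CategoryTheory Limits Pretriangulated Category
open scoped ZeroObject

variable {D : Type u} [Category.{v} D] [Preadditive D] [HasZeroObject D] [HasShift D ℤ]
  [∀ n : ℤ, (shiftFunctor D n).Additive] [Pretriangulated D]

/-- A triangle with the exactness property at its third object which maps back and forth to a
distinguished triangle with mutually inverse first two components is distinguished. -/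
lemma dist_of_comparison (T S : Triangle D) (hS : S ∈ distinguishedTriangles)
    (φ : T ⟶ S) (ψ : S ⟶ T)
    (h₁ : φ.hom₁ ≫ ψ.hom₁ = 𝟙 _) (h₁' : ψ.hom₁ ≫ φ.hom₁ = 𝟙 _)
    (h₂ : φ.hom₂ ≫ ψ.hom₂ = 𝟙 _) (h₂' : ψ.hom₂ ≫ φ.hom₂ = 𝟙 _)
    (hex : ∀ (x : T.obj₃ ⟶ T.obj₃), x ≫ T.mor₃ = 0 → ∃ y : T.obj₃ ⟶ T.obj₂, x = y ≫ T.mor₂) :
    T ∈ distinguishedTriangles := by
  let N := φ.hom₃ ≫ ψ.hom₃ - 𝟙 _
  have c2 : T.mor₂ ≫ φ.hom₃ ≫ ψ.hom₃ = T.mor₂ := by
    rw [φ.comm₂_assoc, ψ.comm₂, reassoc_of% h₂]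
  have c3 : (φ.hom₃ ≫ ψ.hom₃) ≫ T.mor₃ = T.mor₃ := by
    rw [assoc, ← ψ.comm₃, ← φ.comm₃_assoc, ← Functor.map_comp, h₁, CategoryTheory.Functor.map_id, Category.comp_id]
  have hN2 : T.mor₂ ≫ N = 0 := by simp [N, c2]
  have hN3 : N ≫ T.mor₃ = 0 := by simp only [N, Preadditive.sub_comp, c3, Category.id_comp, sub_self]
  obtain ⟨y, hy⟩ := hex N hN3
  have hNN : N ≫ N = 0 := by
    calc N ≫ N = (y ≫ T.mor₂) ≫ N := by rw [← hy]
      _ = 0 := by rw [assoc, hN2, comp_zero]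
  have e : φ.hom₃ ≫ ψ.hom₃ = 𝟙 _ + N := by simp [N]
  have i1 : IsIso (φ.hom₃ ≫ ψ.hom₃) :=
    ⟨⟨𝟙 _ - N, by
      constructor <;> rw [e] <;> simp [Preadditive.comp_sub, Preadditive.sub_comp, hNN]⟩⟩
  have i2 : IsIso (ψ.hom₃ ≫ φ.hom₃) := by
    have a1 : IsIso (ψ ≫ φ).hom₁ := by
      change IsIso (ψ.hom₁ ≫ φ.hom₁); rw [h₁']; infer_instance
    have a2 : IsIso (ψ ≫ φ).hom₂ := by
      change IsIso (ψ.hom₂ ≫ φ.hom₂); rw [h₂']; infer_instance
    exact isIso₃_of_isIso₁₂ (ψ ≫ φ) hS hS a1 a2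
  have m : Mono φ.hom₃ := mono_of_mono _ ψ.hom₃
  have ep : IsSplitEpi φ.hom₃ :=
    ⟨⟨⟨inv (ψ.hom₃ ≫ φ.hom₃) ≫ ψ.hom₃, by rw [assoc, IsIso.inv_hom_id]⟩⟩⟩
  have : IsIso φ.hom₃ := isIso_of_mono_of_isSplitEpi _
  have : IsIso φ.hom₁ := ⟨⟨ψ.hom₁, h₁, h₁'⟩⟩
  have : IsIso φ.hom₂ := ⟨⟨ψ.hom₂, h₂, h₂'⟩⟩
  have : IsIso φ := Triangle.isIso_of_isIsos _ inferInstance inferInstance inferInstance
  exact isomorphic_distinguished _ hS _ (asIso φ)

/-- A retract of a distinguished triangle is distinguished. -/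
lemma dist_of_retract (T S : Triangle D) (hS : S ∈ distinguishedTriangles)
    (i : T ⟶ S) (p : S ⟶ T) (h : i ≫ p = 𝟙 _) : T ∈ distinguishedTriangles := by
  obtain ⟨Z, g, h', hT₁⟩ := distinguished_cocone_triangle T.mor₁
  let T₁ := Triangle.mk T.mor₁ g h'
  have h1 : i.hom₁ ≫ p.hom₁ = 𝟙 _ := (congrArg TriangleMorphism.hom₁ h :)
  have h2 : i.hom₂ ≫ p.hom₂ = 𝟙 _ := (congrArg TriangleMorphism.hom₂ h :)
  have h3 : i.hom₃ ≫ p.hom₃ = 𝟙 _ := (congrArg TriangleMorphism.hom₃ h :)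
  let a : S ⟶ T₁ :=
    completeDistinguishedTriangleMorphism S T₁ hS hT₁ p.hom₁ p.hom₂ p.comm₁
  let b : T₁ ⟶ S :=
    completeDistinguishedTriangleMorphism T₁ S hT₁ hS i.hom₁ i.hom₂ i.comm₁
  refine dist_of_comparison T T₁ hT₁ (i ≫ a) (b ≫ p) ?_ ?_ ?_ ?_ ?_
  · change (i.hom₁ ≫ p.hom₁) ≫ (i.hom₁ ≫ p.hom₁) = 𝟙 _
    rw [h1, Category.comp_id]
  · change (i.hom₁ ≫ p.hom₁) ≫ (i.hom₁ ≫ p.hom₁) = 𝟙 T.obj₁
    rw [h1, Category.comp_id]
  · change (i.hom₂ ≫ p.hom₂) ≫ (i.hom₂ ≫ p.hom₂) = 𝟙 _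
    rw [h2, Category.comp_id]
  · change (i.hom₂ ≫ p.hom₂) ≫ (i.hom₂ ≫ p.hom₂) = 𝟙 T.obj₂
    rw [h2, Category.comp_id]
  · intro x hx
    obtain ⟨y, hy⟩ := Triangle.coyoneda_exact₃ S hS (x ≫ i.hom₃) (by
      rw [assoc, ← i.comm₃, reassoc_of% hx, zero_comp])
    refine ⟨y ≫ p.hom₂, ?_⟩
    calc x = (x ≫ i.hom₃) ≫ p.hom₃ := by rw [assoc, h3, Category.comp_id]
      _ = _ := by rw [hy, assoc, assoc, p.comm₂]

/-- The direct sum of two triangles. -/
noncomputable def biprodTriangle (T T' : Triangle D) : Triangle D :=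
  Triangle.mk (biprod.map T.mor₁ T'.mor₁) (biprod.map T.mor₂ T'.mor₂)
    (biprod.desc (T.mor₃ ≫ (shiftFunctor D (1 : ℤ)).map biprod.inl)
      (T'.mor₃ ≫ (shiftFunctor D (1 : ℤ)).map biprod.inr))

variable (T T' : Triangle D)

/-- First inclusion. -/
noncomputable def inlTriangle : T ⟶ biprodTriangle T T' :=
  Triangle.homMk _ _ biprod.inl biprod.inl biprod.inl (biprod.inl_map _ _).symm
    (biprod.inl_map _ _).symm (biprod.inl_desc _ _).symm

/-- Second inclusion. -/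
noncomputable def inrTriangle : T' ⟶ biprodTriangle T T' :=
  Triangle.homMk _ _ biprod.inr biprod.inr biprod.inr (biprod.inr_map _ _).symm
    (biprod.inr_map _ _).symm (biprod.inr_desc _ _).symm

lemma biprod_desc_fst : biprod.desc (T.mor₃ ≫ (shiftFunctor D (1 : ℤ)).map biprod.inl)
    (T'.mor₃ ≫ (shiftFunctor D (1 : ℤ)).map biprod.inr) ≫
      (shiftFunctor D (1 : ℤ)).map (biprod.fst : T.obj₁ ⊞ T'.obj₁ ⟶ T.obj₁) =
    biprod.fst ≫ T.mor₃ := by
  apply biprod.hom_ext' <;>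
    simp [← CategoryTheory.Functor.map_comp, biprod.inl_desc_assoc, biprod.inr_desc_assoc]

lemma biprod_desc_snd : biprod.desc (T.mor₃ ≫ (shiftFunctor D (1 : ℤ)).map biprod.inl)
    (T'.mor₃ ≫ (shiftFunctor D (1 : ℤ)).map biprod.inr) ≫
      (shiftFunctor D (1 : ℤ)).map (biprod.snd : T.obj₁ ⊞ T'.obj₁ ⟶ T'.obj₁) =
    biprod.snd ≫ T'.mor₃ := by
  apply biprod.hom_ext' <;>
    simp [← CategoryTheory.Functor.map_comp, biprod.inl_desc_assoc, biprod.inr_desc_assoc]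

/-- First projection. -/
noncomputable def fstTriangle : biprodTriangle T T' ⟶ T :=
  Triangle.homMk _ _ biprod.fst biprod.fst biprod.fst (biprod.map_fst _ _)
    (biprod.map_fst _ _) (biprod_desc_fst T T')

/-- Second projection. -/
noncomputable def sndTriangle : biprodTriangle T T' ⟶ T' :=
  Triangle.homMk _ _ biprod.snd biprod.snd biprod.snd (biprod.map_snd _ _)
    (biprod.map_snd _ _) (biprod_desc_snd T T')

lemma biprodTriangle_distinguished (hT : T ∈ distinguishedTriangles)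
    (hT' : T' ∈ distinguishedTriangles) : biprodTriangle T T' ∈ distinguishedTriangles := by
  obtain ⟨Z, g, h', hS⟩ := distinguished_cocone_triangle (biprod.map T.mor₁ T'.mor₁)
  let S := Triangle.mk (biprod.map T.mor₁ T'.mor₁) g h'
  let a : T ⟶ S := completeDistinguishedTriangleMorphism T S hT hS biprod.inl biprod.inl
    (biprod.inl_map _ _).symm
  let a' : T' ⟶ S := completeDistinguishedTriangleMorphism T' S hT' hS biprod.inr biprod.inr
    (biprod.inr_map _ _).symm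
  let b : S ⟶ T := completeDistinguishedTriangleMorphism S T hS hT biprod.fst biprod.fst
    (biprod.map_fst _ _)
  let b' : S ⟶ T' := completeDistinguishedTriangleMorphism S T' hS hT' biprod.snd biprod.snd
    (biprod.map_snd _ _)
  let φ : biprodTriangle T T' ⟶ S :=
    fstTriangle T T' ≫ a + sndTriangle T T' ≫ a'
  let ψ : S ⟶ biprodTriangle T T' :=
    b ≫ inlTriangle T T' + b' ≫ inrTriangle T T'
  have e1 : φ.hom₁ = 𝟙 _ := by
    exact biprod.total
  have e2 : φ.hom₂ = 𝟙 _ := by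
    exact biprod.total
  have e1' : ψ.hom₁ = 𝟙 _ := by
    exact biprod.total
  have e2' : ψ.hom₂ = 𝟙 _ := by
    exact biprod.total
  refine dist_of_comparison _ S hS φ ψ ?_ ?_ ?_ ?_ ?_
  · rw [e1, e1']; exact Category.comp_id _
  · rw [e1, e1']; exact Category.comp_id _
  · rw [e2, e2']; exact Category.comp_id _
  · rw [e2, e2']; exact Category.comp_id _
  · intro x hx
    obtain ⟨y, hy⟩ := Triangle.coyoneda_exact₃ T hT (x ≫ biprod.fst) (by
      change (x ≫ (fstTriangle T T').hom₃) ≫ T.mor₃ = 0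
      rw [assoc, ← (fstTriangle T T').comm₃, reassoc_of% hx, zero_comp])
    obtain ⟨y', hy'⟩ := Triangle.coyoneda_exact₃ T' hT' (x ≫ biprod.snd) (by
      change (x ≫ (sndTriangle T T').hom₃) ≫ T'.mor₃ = 0
      rw [assoc, ← (sndTriangle T T').comm₃, reassoc_of% hx, zero_comp])
    refine ⟨biprod.lift y y', ?_⟩
    apply biprod.hom_ext
    · refine hy.trans ?_
      exact ((Category.assoc _ _ _).trans ((congrArg (biprod.lift y y' ≫ ·) (biprod.map_fst _ _)).trans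
        (biprod.lift_fst_assoc _ _ _))).symm
    · refine hy'.trans ?_
      exact ((Category.assoc _ _ _).trans ((congrArg (biprod.lift y y' ≫ ·) (biprod.map_snd _ _)).trans
        (biprod.lift_snd_assoc _ _ _))).symm

lemma biprodTriangle_distinguished_iff :
    biprodTriangle T T' ∈ distinguishedTriangles ↔
      (T ∈ distinguishedTriangles ∧ T' ∈ distinguishedTriangles) := by
  refine ⟨fun h => ⟨?_, ?_⟩, fun h => biprodTriangle_distinguished T T' h.1 h.2⟩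
  · exact dist_of_retract T _ h (inlTriangle T T') (fstTriangle T T')
      (by ext <;> exact biprod.inl_fst)
  · exact dist_of_retract T' _ h (inrTriangle T T') (sndTriangle T T')
      (by ext <;> exact biprod.inr_snd)

end Groth.Agent.CohDerX
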