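import Mathlib

/-! Ext classes of positive degree are killed by an epimorphism on the source. -/

universe w v u

namespace Groth.Agent.CohDerX

open CategoryTheory Limits Category DerivedCategory Abelian

variable {C : Type u} [Category.{v} C] [Abelian C]

lemma efface_aux [HasDerivedCategory.{w} C] {L M : C} {i : ℤ} (hi : i < 0)
    (φ : Q.obj ((CochainComplex.singleFunctor C 0).obj L) ⟶
      Q.obj ((CochainComplex.singleFunctor C i).obj M)) :
    ∃ (L' : C) (p : L' ⟶ L), Epi p ∧
      Q.map ((CochainComplex.singleFunctor C 0).map p) ≫ φ = 0 := by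
  obtain ⟨X, hX, s, hs, g, rfl⟩ := right_fac_of_isStrictlyLE φ 0
  have hq : QuasiIso s := by rwa [isIso_Q_map_iff_quasiIso] at hs
  let S := (CochainComplex.singleFunctor C 0).obj L
  have hd : X.d 0 1 = 0 := (X.isZero_of_isStrictlyLE 0 1 (by omega)).eq_of_tgt _ _
  have : IsIso (X.iCycles 0) := X.isIso_iCycles 0 1 (by simp) hd
  have : IsIso (S.iCycles 0) :=
    S.isIso_iCycles 0 1 (by simp) ((CochainComplex.isZero_of_isStrictlyLE S 0 1 (by omega)).eq_of_tgt _ _)
  have : IsIso (S.homologyπ 0) :=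
    S.isIso_homologyπ (-1) 0 (by simp) ((CochainComplex.isZero_of_isStrictlyGE S 0 (-1) (by omega)).eq_of_src _ _)
  have e1 : Epi (HomologicalComplex.cyclesMap s 0) := by
    have h := HomologicalComplex.homologyπ_naturality s 0
    have : HomologicalComplex.cyclesMap s 0 =
        (X.homologyπ 0 ≫ HomologicalComplex.homologyMap s 0) ≫ inv (S.homologyπ 0) := by
      rw [h, assoc, IsIso.hom_inv_id, comp_id]
    rw [this]
    infer_instance
  have e2 : Epi (s.f 0) := by
    have h := HomologicalComplex.cyclesMap_i s 0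
    have : s.f 0 = inv (X.iCycles 0) ≫ HomologicalComplex.cyclesMap s 0 ≫ S.iCycles 0 := by
      rw [h, IsIso.inv_hom_id_assoc]
    rw [this]
    infer_instance
  let e := (HomologicalComplex.singleObjXSelf (ComplexShape.up ℤ) 0 L)
  refine ⟨X.X 0, s.f 0 ≫ e.hom, by infer_instance, ?_⟩
  let ι : (CochainComplex.singleFunctor C 0).obj (X.X 0) ⟶ X :=
    HomologicalComplex.mkHomFromSingle (𝟙 (X.X 0)) (fun j hj => by
      obtain rfl : j = 1 := by simp at hj; omega
      simp [hd])
  have h1 : (CochainComplex.singleFunctor C 0).map (s.f 0 ≫ e.hom) = ι ≫ s := by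
    apply HomologicalComplex.from_single_hom_ext
    simp [ι, e, CochainComplex.singleFunctor, CochainComplex.singleFunctors,
      HomologicalComplex.single_map_f_self]
  have h2 : ι ≫ g = 0 := by
    apply HomologicalComplex.from_single_hom_ext
    exact (HomologicalComplex.isZero_single_obj_X (ComplexShape.up ℤ) i M 0 (by omega)).eq_of_tgt _ _
  rw [h1, Q.map_comp, assoc, IsIso.hom_inv_id_assoc, ← Q.map_comp, h2, Q.map_zero]

lemma exists_epi_efface [HasExt.{w} C] {L M : C} {n : ℕ} (hn : 1 ≤ n) (y : Ext.{w} L M n) :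
    ∃ (L' : C) (p : L' ⟶ L), Epi p ∧ (Ext.mk₀ p).comp y (zero_add n) = 0 := by
  let := HasDerivedCategory.standard C
  let t := ((singleFunctors C).shiftIso (n : ℤ) (-(n : ℤ)) 0 (by omega)).app M
  obtain ⟨L', p, hp, h⟩ := efface_aux (i := -(n : ℤ)) (by omega) (y.hom ≫ t.hom)
  refine ⟨L', p, hp, ?_⟩
  apply Ext.homEquiv.injective
  change Ext.hom _ = Ext.hom _
  rw [Ext.zero_hom, Ext.comp_hom, Ext.mk₀_hom, ShiftedHom.mk₀_comp, ← cancel_mono t.hom,
    zero_comp, assoc]
  exact h

end Groth.Agent.CohDerX
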