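import Mathlib

/-! Factorizations of morphisms of complexes by termwise split maps and homotopy equivalences. -/

universe v u

namespace Groth.Agent.CohDerX

open CategoryTheory Limits CochainComplex CochainComplex.HomComplex

variable {V : Type u} [Category.{v} V] [Preadditive V] [HasBinaryBiproducts V]

/-- `L ⊞ M → L` is a homotopy equivalence if `M` is contractible. -/
noncomputable def fstHomotopy {L M : CochainComplex V ℤ} (h : Homotopy (𝟙 M) 0) :
    Homotopy ((biprod.fst : L ⊞ M ⟶ L) ≫ biprod.inl) (𝟙 (L ⊞ M)) :=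
  ((Homotopy.ofEq (by simp)).trans
    (((h.compRight (biprod.inr : M ⟶ L ⊞ M)).compLeft (biprod.snd : L ⊞ M ⟶ M)).symm.add
      (Homotopy.refl (biprod.fst ≫ biprod.inl)))).trans
    (Homotopy.ofEq (by rw [add_comm]; simp))

lemma isZero_biprod_X (L M : CochainComplex V ℤ) (i : ℤ) (hL : IsZero (L.X i))
    (hM : IsZero (M.X i)) : IsZero ((L ⊞ M).X i) :=
  ((biprod_isZero_iff _ _).2 ⟨hL, hM⟩).of_iso (HomologicalComplex.biprodXIso L M i)

/-- Split injection criterion: `(f, j) : K ⟶ L ⊞ M` when `j` is split injective. -/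
lemma splitInj_lift {K L M C : V} (f : K ⟶ L) (j : K ⟶ M) (e : M ≅ K ⊞ C) (he : j ≫ e.hom = biprod.inl) :
    ∃ (C' : V) (ε : L ⊞ M ≅ K ⊞ C'), biprod.lift f j ≫ ε.hom = biprod.inl := by
  have hj : biprod.inl ≫ e.inv = j := by rw [← he, Category.assoc, e.hom_inv_id, Category.comp_id]
  refine ⟨L ⊞ C,
    { hom := biprod.lift (biprod.snd ≫ e.hom ≫ biprod.fst)
        (biprod.lift (biprod.fst - biprod.snd ≫ e.hom ≫ biprod.fst ≫ f)
          (biprod.snd ≫ e.hom ≫ biprod.snd))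
      inv := biprod.desc (biprod.lift f j)
        (biprod.desc biprod.inl (biprod.inr ≫ e.inv ≫ biprod.inr))
      hom_inv_id := ?_
      inv_hom_id := ?_ }, ?_⟩
  · apply biprod.hom_ext' <;> apply biprod.hom_ext <;>
      simp [biprod.lift_desc, Preadditive.comp_sub, Preadditive.sub_comp, biprod.lift_eq,
        biprod.desc_eq, Preadditive.comp_add, Preadditive.add_comp, ← hj, biprod.total]
    rw [← Category.assoc biprod.fst, ← Category.assoc biprod.snd, ← Preadditive.comp_add,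
      ← Preadditive.add_comp, biprod.total, Category.id_comp, e.hom_inv_id]
  · apply biprod.hom_ext'
    · apply biprod.hom_ext
      · simp [biprod.lift_snd_assoc, reassoc_of% he]
      · apply biprod.hom_ext <;> simp [Preadditive.comp_sub, reassoc_of% he]
    · apply biprod.hom_ext'
      · apply biprod.hom_ext
        · simp
        · apply biprod.hom_ext <;> simp [Preadditive.comp_sub]
      · apply biprod.hom_ext
        · simp
        · apply biprod.hom_ext <;> simp [Preadditive.comp_sub]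
  · apply biprod.hom_ext
    · simp [biprod.lift_snd_assoc, reassoc_of% he]
    · apply biprod.hom_ext <;> simp [Preadditive.comp_sub, reassoc_of% he]

/-- Split surjection criterion: `(f, q) : K ⊞ M ⟶ L` when `q` is split surjective. -/
lemma splitEpi_desc {K L M C : V} (f : K ⟶ L) (q : M ⟶ L) (e : M ≅ C ⊞ L) (he : e.inv ≫ q = biprod.snd) :
    ∃ (C' : V) (ε : K ⊞ M ≅ C' ⊞ L), ε.inv ≫ biprod.desc f q = biprod.snd := by
  have hq : e.hom ≫ biprod.snd = q := by rw [← he, e.hom_inv_id_assoc]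
  refine ⟨K ⊞ C,
    { inv := biprod.desc
        (biprod.desc (biprod.inl - f ≫ biprod.inr ≫ e.inv ≫ biprod.inr)
          (biprod.inl ≫ e.inv ≫ biprod.inr))
        (biprod.inr ≫ e.inv ≫ biprod.inr)
      hom := biprod.lift (biprod.lift biprod.fst (biprod.snd ≫ e.hom ≫ biprod.fst))
        (biprod.desc f q)
      inv_hom_id := ?_
      hom_inv_id := ?_ }, ?_⟩
  · apply biprod.hom_ext' <;> apply biprod.hom_ext <;>
      simp [biprod.lift_desc, Preadditive.comp_sub, Preadditive.sub_comp, biprod.lift_eq,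
        biprod.desc_eq, Preadditive.comp_add, Preadditive.add_comp, ← hq, biprod.total]
    rw [← Category.assoc biprod.fst, ← Category.assoc biprod.snd, ← Preadditive.comp_add,
      ← Preadditive.add_comp, biprod.total, Category.id_comp, e.hom_inv_id]
  · apply biprod.hom_ext'
    · apply biprod.hom_ext'
      · apply biprod.hom_ext
        · apply biprod.hom_ext <;> simp [Preadditive.sub_comp]
        · simp [Preadditive.sub_comp, he]
      · apply biprod.hom_ext
        · apply biprod.hom_ext <;> simp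
        · simp [he]
    · apply biprod.hom_ext
      · apply biprod.hom_ext <;> simp
      · simp [he]
  · apply biprod.hom_ext'
    · apply biprod.hom_ext' <;> simp [Preadditive.sub_comp, he]
    · simp [he]

/-- The split inclusion of a complex in the cone of its identity. -/
noncomputable def coneXIso (K : CochainComplex V ℤ) (n : ℤ) :
    (mappingCone (𝟙 K)).X n ≅ K.X n ⊞ K.X (n + 1) where
  hom := biprod.lift ((mappingCone.snd (𝟙 K)).v n n (add_zero n))
    ((mappingCone.fst (𝟙 K)).1.v n (n + 1) rfl)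
  inv := biprod.desc ((mappingCone.inr (𝟙 K)).f n)
    ((mappingCone.inl (𝟙 K)).v (n + 1) n (by omega))
  hom_inv_id := by
    rw [biprod.lift_desc, add_comm]
    exact (mappingCone.id_X (𝟙 K) n (n + 1) rfl)
  inv_hom_id := by
    apply biprod.hom_ext' <;> apply biprod.hom_ext <;> simp

/-- The projection from a contractible complex onto `L`. -/
noncomputable def pathProj (L : CochainComplex V ℤ) :
    mappingCone (𝟙 (L⟦(-1 : ℤ)⟧)) ⟶ L :=
  (mappingCone.triangle (𝟙 (L⟦(-1 : ℤ)⟧))).mor₃ ≫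
    (shiftFunctorCompIsoId (CochainComplex V ℤ) (-1 : ℤ) (1 : ℤ) (by omega)).hom.app L

lemma triangleProj_split (M : CochainComplex V ℤ) {L : CochainComplex V ℤ}
    (θ : M⟦(1 : ℤ)⟧ ⟶ L) [IsIso θ] (n : ℤ) :
    ∃ (C : V) (e : (mappingCone (𝟙 M)).X n ≅ C ⊞ L.X n),
      e.inv ≫ ((mappingCone.triangle (𝟙 M)).mor₃ ≫ θ).f n = biprod.snd := by
  let te : (M⟦(1 : ℤ)⟧).X n ≅ L.X n :=
    (HomologicalComplex.eval V (ComplexShape.up ℤ) n).mapIso (asIso θ)
  let u : M.X (n + 1) ≅ L.X n := (M.shiftFunctorObjXIso 1 n (n + 1) rfl).symm ≪≫ te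
  let we : M.X (n + 1) ≅ L.X n :=
    { hom := -u.hom
      inv := -u.inv
      hom_inv_id := by rw [Preadditive.neg_comp_neg, Iso.hom_inv_id]
      inv_hom_id := by rw [Preadditive.neg_comp_neg, Iso.inv_hom_id] }
  have h1 : (mappingCone.inr (𝟙 M)).f n ≫
      ((mappingCone.triangle (𝟙 M)).mor₃ ≫ θ).f n = 0 :=
    (Category.assoc _ _ _).symm.trans
      ((congrArg (· ≫ θ.f n) (mappingCone.inr_f_triangle_mor₃_f (𝟙 M) n)).trans zero_comp)
  have h2 : (mappingCone.inl (𝟙 M)).v (n + 1) n (by omega) ≫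
      ((mappingCone.triangle (𝟙 M)).mor₃ ≫ θ).f n = we.hom :=
    (Category.assoc _ _ _).symm.trans
      ((congrArg (· ≫ θ.f n) (mappingCone.inl_v_triangle_mor₃_f (𝟙 M) (n + 1) n (by omega))).trans
        (Preadditive.neg_comp _ _))
  refine ⟨M.X n, coneXIso M n ≪≫ biprod.mapIso (Iso.refl _) we, ?_⟩
  apply biprod.hom_ext'
  · simp only [coneXIso, Iso.trans_inv, biprod.mapIso_inv, Iso.refl_inv,
      Category.assoc, biprod.inl_map_assoc, Category.id_comp, biprod.inl_desc_assoc,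
      biprod.inl_snd]
    exact h1
  · simp only [coneXIso, Iso.trans_inv, biprod.mapIso_inv, Iso.refl_inv,
      Category.assoc, biprod.inr_map_assoc, biprod.inr_desc_assoc, biprod.inr_snd]
    rw [Iso.inv_comp_eq, Category.comp_id]
    exact h2

lemma pathProj_split (L : CochainComplex V ℤ) (n : ℤ) :
    ∃ (C : V) (e : (mappingCone (𝟙 (L⟦(-1 : ℤ)⟧))).X n ≅ C ⊞ L.X n),
      e.inv ≫ (pathProj L).f n = biprod.snd :=
  triangleProj_split _ _ n

lemma inj_factorization [HasZeroObject V] (K L : CochainComplex V ℤ) (α : K ⟶ L) :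
    ∃ (L' : CochainComplex V ℤ) (α' : K ⟶ L') (π : L' ⟶ L) (s : L ⟶ L'),
      α' ≫ π = α ∧ s ≫ π = 𝟙 L ∧ Nonempty (Homotopy (π ≫ s) (𝟙 L')) ∧
      (∀ n : ℤ, ∃ (C : V) (e : L'.X n ≅ K.X n ⊞ C), α'.f n ≫ e.hom = biprod.inl) ∧
      (∀ a : ℤ, K.IsStrictlyGE a → L.IsStrictlyGE a → ∃ a' : ℤ, L'.IsStrictlyGE a') ∧
      (∀ a : ℤ, K.IsStrictlyLE a → L.IsStrictlyLE a → ∃ a' : ℤ, L'.IsStrictlyLE a') := by
  refine ⟨L ⊞ mappingCone (𝟙 K), biprod.lift α (mappingCone.inr _), biprod.fst, biprod.inl,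
    by simp, by simp, ⟨fstHomotopy (mappingCone.homotopyToZeroOfId K)⟩, fun n => ?_, ?_, ?_⟩
  · obtain ⟨C, ε, hε⟩ := splitInj_lift (α.f n) ((mappingCone.inr (𝟙 K)).f n) (coneXIso K n)
      (by apply biprod.hom_ext <;> simp [coneXIso])
    refine ⟨C, HomologicalComplex.biprodXIso L (mappingCone (𝟙 K)) n ≪≫ ε, ?_⟩
    rw [← hε, Iso.trans_hom, ← Category.assoc]
    congr 1
    apply biprod.hom_ext <;> simp [← HomologicalComplex.comp_f]
  · intro a hK hL
    refine ⟨a - 1, ?_⟩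
    rw [isStrictlyGE_iff]
    intro i hi
    refine isZero_biprod_X _ _ i (L.isZero_of_isStrictlyGE a i) ?_
    rw [mappingCone.isZero_X_iff]
    exact ⟨K.isZero_of_isStrictlyGE a _, K.isZero_of_isStrictlyGE a _⟩
  · intro a hK hL
    refine ⟨a, ?_⟩
    rw [isStrictlyLE_iff]
    intro i hi
    refine isZero_biprod_X _ _ i (L.isZero_of_isStrictlyLE a i) ?_
    rw [mappingCone.isZero_X_iff]
    exact ⟨K.isZero_of_isStrictlyLE a _ (by omega), K.isZero_of_isStrictlyLE a _⟩

lemma surj_factorization [HasZeroObject V] (K L : CochainComplex V ℤ) (α : K ⟶ L) :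
    ∃ (K' : CochainComplex V ℤ) (i : K ⟶ K') (α' : K' ⟶ L) (s : K' ⟶ K),
      i ≫ α' = α ∧ i ≫ s = 𝟙 K ∧ Nonempty (Homotopy (s ≫ i) (𝟙 K')) ∧
      (∀ n : ℤ, ∃ (C : V) (e : K'.X n ≅ C ⊞ L.X n), e.inv ≫ α'.f n = biprod.snd) ∧
      (∀ a : ℤ, K.IsStrictlyGE a → L.IsStrictlyGE a → ∃ a' : ℤ, K'.IsStrictlyGE a') ∧
      (∀ a : ℤ, K.IsStrictlyLE a → L.IsStrictlyLE a → ∃ a' : ℤ, K'.IsStrictlyLE a') := by
  refine ⟨K ⊞ mappingCone (𝟙 (L⟦(-1 : ℤ)⟧)), biprod.inl, biprod.desc α (pathProj L), biprod.fst,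
    by simp, by simp, ⟨fstHomotopy (mappingCone.homotopyToZeroOfId _)⟩, fun n => ?_, ?_, ?_⟩
  · obtain ⟨C₀, e, he⟩ := pathProj_split L n
    obtain ⟨C, ε, hε⟩ := splitEpi_desc (α.f n) ((pathProj L).f n) e he
    refine ⟨C, HomologicalComplex.biprodXIso K _ n ≪≫ ε, ?_⟩
    rw [← hε, Iso.trans_inv, Category.assoc]
    congr 1
    apply biprod.hom_ext' <;> simp [← HomologicalComplex.comp_f]
  · intro a hK hL
    refine ⟨a, ?_⟩
    rw [isStrictlyGE_iff]
    intro i hi
    have := L.isStrictlyGE_shift a (-1) (a + 1) (by omega)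
    refine isZero_biprod_X _ _ i (K.isZero_of_isStrictlyGE a i) ?_
    rw [mappingCone.isZero_X_iff]
    exact ⟨(L⟦(-1 : ℤ)⟧).isZero_of_isStrictlyGE (a + 1) _ (by omega),
      (L⟦(-1 : ℤ)⟧).isZero_of_isStrictlyGE (a + 1) _ (by omega)⟩
  · intro a hK hL
    refine ⟨a + 1, ?_⟩
    rw [isStrictlyLE_iff]
    intro i hi
    have := L.isStrictlyLE_shift a (-1) (a + 1) (by omega)
    refine isZero_biprod_X _ _ i (K.isZero_of_isStrictlyLE a i (by omega)) ?_
    rw [mappingCone.isZero_X_iff]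
    exact ⟨(L⟦(-1 : ℤ)⟧).isZero_of_isStrictlyLE (a + 1) _ (by omega),
      (L⟦(-1 : ℤ)⟧).isZero_of_isStrictlyLE (a + 1) _ (by omega)⟩

end Groth.Agent.CohDerX
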